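import Groth.Agent.H84WeilRes.Chart
import Mathlib.AlgebraicGeometry.Morphisms.Affine

/-!
# Weil restriction over an open of the base
-/

universe u

open CategoryTheory Limits AlgebraicGeometry Groth.Agent.H84WeilRes

namespace Groth.Agent.RelPC13.WeilMor

variable {S S' : Scheme.{u}} {f : S' ⟶ S} {X' : Over S'}

section Square

variable {A A' : Scheme.{u}} {g : A' ⟶ A} {a : A ⟶ S} {a' : A' ⟶ S'} (sq : IsPullback a' g f a)
  (U : X'.left.Opens) {X'' : Over A'} (κ : X''.left ≅ (U : Scheme.{u})) (hκ : X''.hom ≫ a' = κ.hom ≫ U.ι ≫ X'.hom)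
  {R0 : Over A} {q0 : (Over.pullback g).obj R0 ⟶ X''} (h0 : WeilRes.IsWeilRes g X'' R0 q0)

include h0 in
/-- A chart has injective point maps. -/
theorem injective_chart [IsOpenImmersion a] (T : Over S) :
    Function.Injective (WeilRes.restr f (chartQ sq U κ hκ (q0 := q0)) T) := by
  intro γ γ' h
  let T0 : Over A := Over.mk (γ.left ≫ R0.hom)
  let e : push a T0 ≅ T := Over.isoMk (Iso.refl _) (by
    change 𝟙 _ ≫ T.hom = (γ.left ≫ R0.hom) ≫ a
    rw [Category.id_comp, Category.assoc, ← Over.w γ]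
    rfl)
  have hmono : γ'.left ≫ R0.hom = γ.left ≫ R0.hom := (cancel_mono a).1 (by
    rw [Category.assoc, Category.assoc]
    exact (Over.w γ').trans (Over.w γ).symm)
  let g0 : T0 ⟶ R0 := Over.homMk γ.left rfl
  let g0' : T0 ⟶ R0 := Over.homMk γ'.left hmono
  have k1 := restr_key sq U κ hκ (q0 := q0) e g0 γ (Category.id_comp _)
  have k2 := restr_key sq U κ hκ (q0 := q0) e g0' γ' (Category.id_comp _)
  rw [h, k2] at k1
  have : g0' = g0 := (h0 T0).1 (Over.OverMorphism.ext ((cancel_mono κ.hom).1 ((cancel_mono U.ι).1 (by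
    rw [Category.assoc, Category.assoc]; exact k1))))
  exact Over.OverMorphism.ext (congrArg CommaMorphism.left this).symm

include h0 in
/-- A chart is hit by every point lying over the open of the base. -/
theorem exists_hit_chart [IsOpenImmersion a] [Mono a'] (T : Over S) (hT : Set.range T.hom ⊆ Set.range a)
    (h : Red.bc f T ⟶ X') (hh : Set.range h.left ⊆ U) :
    ∃ γ, WeilRes.restr f (chartQ sq U κ hκ (q0 := q0)) T γ = h := by
  let T0 : Over A := Over.mk (IsOpenImmersion.lift a T.hom hT)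
  let e : push a T0 ≅ T := Over.isoMk (Iso.refl _) (by
    change 𝟙 _ ≫ T.hom = IsOpenImmersion.lift a T.hom hT ≫ a
    rw [Category.id_comp, IsOpenImmersion.lift_fac])
  let m : ((Over.pullback g).obj T0).left ⟶ X'.left :=
    (theta sq T0).hom ≫ ((Over.pullback f).map e.hom).left ≫ h.left
  have hm : Set.range m ⊆ Set.range U.ι := by
    rw [Scheme.Opens.range_ι]
    rintro _ ⟨z, rfl⟩
    exact hh ⟨_, rfl⟩
  let m0 : (Over.pullback g).obj T0 ⟶ X'' :=
    Over.homMk (IsOpenImmersion.lift U.ι m hm ≫ κ.inv) ((cancel_mono a').1 (by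
      simp only [Category.assoc]
      rw [hκ, Iso.inv_hom_id_assoc, IsOpenImmersion.lift_fac_assoc]
      simp only [m, Category.assoc]
      rw [Over.w h, show ((Over.pullback f).map e.hom).left ≫ (Red.bc f T).hom = (Red.bc f (push a T0)).hom from
        Over.w ((Over.pullback f).map e.hom)]
      exact theta_snd sq T0))
  obtain ⟨g0, hg0⟩ := (h0 T0).2 m0
  let γ : T ⟶ push a R0 := e.inv ≫ Over.homMk g0.left (by
    change g0.left ≫ R0.hom ≫ a = T0.hom ≫ a
    rw [← Category.assoc, Over.w g0])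
  refine ⟨γ, Over.OverMorphism.ext ?_⟩
  have k := restr_key sq U κ hκ (q0 := q0) e g0 γ (by simp [γ])
  rw [hg0] at k
  have : IsIso ((Over.pullback f).map e.hom).left :=
    ((Over.pullback f ⋙ Over.forget _).mapIso e).isIso_hom
  refine (cancel_epi ((Over.pullback f).map e.hom).left).1 ((cancel_epi (theta sq T0).hom).1 (k.trans ?_))
  change (IsOpenImmersion.lift U.ι m hm ≫ κ.inv) ≫ κ.hom ≫ U.ι = m
  rw [Category.assoc, Iso.inv_hom_id_assoc, IsOpenImmersion.lift_fac]

end Square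

/-- The representability over an open `V` of the base. -/
structure IsResOver (f : S' ⟶ S) (X' : Over S') (V : S.Opens) (R : Over S) (q : Red.bc f R ⟶ X') : Prop where
  range_subset : Set.range R.hom ⊆ V
  bijective : ∀ T : Over S, Set.range T.hom ⊆ V → Function.Bijective (WeilRes.restr f q T)

/-- Two representing objects over the same open are isomorphic. -/
theorem IsResOver.nonempty_iso {V : S.Opens} {R R' : Over S} {q : Red.bc f R ⟶ X'} {q' : Red.bc f R' ⟶ X'}
    (h : IsResOver f X' V R q) (h' : IsResOver f X' V R' q') : Nonempty (R ≅ R') := by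
  obtain ⟨a, ha⟩ := (h'.bijective R h.range_subset).2 q
  obtain ⟨b, hb⟩ := (h.bijective R' h'.range_subset).2 q'
  refine ⟨⟨a, b, (h.bijective R h.range_subset).1 ?_, (h'.bijective R' h'.range_subset).1 ?_⟩⟩
  · rw [WeilRes.restr_comp, hb, ← WeilRes.restr_apply, ha, WeilRes.restr_id]
  · rw [WeilRes.restr_comp, ha, ← WeilRes.restr_apply, hb, WeilRes.restr_id]

theorem isResOver_res {R : Over S} {q : Red.bc f R ⟶ X'} (h : WeilRes.IsWeilRes f X' R q) (V : S.Opens) :
    IsResOver f X' V (res R (R.hom ⁻¹ᵁ V)) ((Over.pullback f).map (resι R (R.hom ⁻¹ᵁ V)) ≫ q) where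
  range_subset := by rintro _ ⟨x, rfl⟩; exact x.2
  bijective T hT := by
    constructor
    · intro g g' e
      refine resι_injective _ ((h T).1 ?_)
      rw [WeilRes.restr_comp, WeilRes.restr_comp]
      simpa [WeilRes.restr] using e
    · intro a
      obtain ⟨g, hg⟩ := (h T).2 a
      have hr : Set.range g.left ⊆ R.hom ⁻¹ᵁ V := by
        rintro _ ⟨t, rfl⟩
        change R.hom (g.left t) ∈ V
        exact hT ⟨t, (congrArg (fun m => m.base t) (Over.w g)).symm⟩
      obtain ⟨g', rfl⟩ := exists_lift_res _ g hr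
      exact ⟨g', by rw [← hg, WeilRes.restr_comp]; simp [WeilRes.restr]⟩

/-- Over an affine open of the base with affine preimage in `X'`, the Weil restriction is affine. -/
theorem exists_isResOver [IsFinite f] [Flat f] [LocallyOfFinitePresentation f] {V : S.Opens} (hV : IsAffineOpen V)
    (hU : IsAffineOpen ((X'.hom ≫ f) ⁻¹ᵁ V)) :
    ∃ R q, IsAffine R.left ∧ IsResOver f X' V R q := by
  have hW : IsAffineOpen (f ⁻¹ᵁ V) := hV.preimage f
  let : Algebra Γ(S, V) Γ(S', f ⁻¹ᵁ V) := (f.app V).hom.toAlgebra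
  have hfin : Module.Finite Γ(S, V) Γ(S', f ⁻¹ᵁ V) := f.finite_app V hV
  have hflat : Module.Flat Γ(S, V) Γ(S', f ⁻¹ᵁ V) := by
    have := f.flat_appLE hV hW le_rfl
    rwa [Scheme.Hom.appLE_eq_app] at this
  have hfp : Algebra.FinitePresentation Γ(S, V) Γ(S', f ⁻¹ᵁ V) := by
    have := HasRingHomProperty.appLE @LocallyOfFinitePresentation f inferInstance ⟨V, hV⟩ ⟨f ⁻¹ᵁ V, hW⟩ le_rfl
    rwa [Scheme.Hom.appLE_eq_app] at this
  have : Module.FinitePresentation Γ(S, V) Γ(S', f ⁻¹ᵁ V) := Module.FinitePresentation.of_finite_of_finitePresentation _ _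
  have : Module.Projective Γ(S, V) Γ(S', f ⁻¹ᵁ V) := Module.Flat.projective_of_finitePresentation
  have sq : IsPullback hW.fromSpec (fB Γ(S, V) Γ(S', f ⁻¹ᵁ V)) f hV.fromSpec := by
    refine IsPullback.flip (IsOpenImmersion.isPullback _ _ _ _ ?_ ?_)
    · rw [← IsAffineOpen.SpecMap_appLE_fromSpec f hV hW le_rfl, Scheme.Hom.appLE_eq_app]
      rfl
    · apply TopologicalSpace.Opens.ext
      simp only [Scheme.Hom.coe_opensRange, Scheme.Hom.coe_preimage, IsAffineOpen.range_fromSpec]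
      exact congrArg (⇑f ⁻¹' ·) hV.range_fromSpec
  let U : X'.left.Opens := (X'.hom ≫ f) ⁻¹ᵁ V
  have hr : Set.range (U.ι ≫ X'.hom) ⊆ Set.range hW.fromSpec := by
    rw [IsAffineOpen.range_fromSpec]
    rintro _ ⟨z, rfl⟩
    exact z.2
  let X'' : Over (Spec (CommRingCat.of Γ(S', f ⁻¹ᵁ V))) :=
    Over.mk (IsOpenImmersion.lift hW.fromSpec (U.ι ≫ X'.hom) hr)
  have : IsAffine X''.left := hU
  obtain ⟨R0, q0, hR0, h0⟩ := exists_isWeilRes' Γ(S, V) Γ(S', f ⁻¹ᵁ V) X''
  have hκ : X''.hom ≫ hW.fromSpec = (Iso.refl (U : Scheme.{u})).hom ≫ U.ι ≫ X'.hom := by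
    change IsOpenImmersion.lift hW.fromSpec (U.ι ≫ X'.hom) hr ≫ hW.fromSpec = 𝟙 _ ≫ U.ι ≫ X'.hom
    rw [IsOpenImmersion.lift_fac, Category.id_comp]
  refine ⟨push hV.fromSpec R0, chartQ sq U (X'' := X'') (Iso.refl _) hκ (q0 := q0), hR0, ?_, fun T hT => ?_⟩
  · rintro _ ⟨x, rfl⟩
    exact hV.range_fromSpec.le ⟨R0.hom x, rfl⟩
  · refine ⟨injective_chart sq U _ hκ h0 T, fun h => exists_hit_chart sq U _ hκ h0 T
      (hT.trans hV.range_fromSpec.ge) h ?_⟩
    rintro _ ⟨z, rfl⟩
    change f (X'.hom (h.left z)) ∈ V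
    have e1 : X'.hom (h.left z) = pullback.snd T.hom f z := congrArg (fun m => m.base z) (Over.w h)
    rw [e1, ← Scheme.Hom.comp_apply, ← pullback.condition]
    exact hT ⟨_, rfl⟩

/-- A Weil restriction of a scheme affine over `S'` is affine over `S`. -/
theorem isAffineHom_of_isWeilRes [IsFinite f] [Flat f] [LocallyOfFinitePresentation f] [IsAffineHom X'.hom]
    {R : Over S} {q : Red.bc f R ⟶ X'} (h : WeilRes.IsWeilRes f X' R q) : IsAffineHom R.hom := by
  refine ⟨fun V hV => ?_⟩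
  obtain ⟨R', q', hR', h'⟩ := exists_isResOver (X' := X') hV (hV.preimage (X'.hom ≫ f))
  obtain ⟨e⟩ := (isResOver_res h V).nonempty_iso h'
  have : IsAffine (res R (R.hom ⁻¹ᵁ V)).left :=
    @IsAffine.of_isIso _ _ e.hom.left ((Over.forget S).mapIso e).isIso_hom hR'
  exact this

end Groth.Agent.RelPC13.WeilMor
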