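import Groth.Agent.RelPC13.WeilMor.Chart
import Mathlib.AlgebraicGeometry.Limits
import Mathlib.AlgebraicGeometry.Morphisms.QuasiFinite
import Mathlib.AlgebraicGeometry.Morphisms.UniversallyOpen

/-!
# Existence of Weil restrictions along finite locally free morphisms
-/

universe u

open CategoryTheory Limits AlgebraicGeometry Groth.Agent.H84WeilRes

namespace Groth.Agent.RelPC13.WeilMor

variable {S S' : Scheme.{u}}

/-- Finite sets of points over a point of `S` lie in small affine opens. -/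
def FinAff (f : S' ⟶ S) (X' : Over S') : Prop :=
  ∀ (s : S) (F : Set X'.left), F.Finite → (∀ x ∈ F, f (X'.hom x) = s) →
    ∃ U : X'.left.Opens, IsAffineOpen U ∧ (∃ V : S.Opens, IsAffineOpen V ∧ U ≤ (X'.hom ≫ f) ⁻¹ᵁ V) ∧ F ⊆ U

theorem exists_of_surjective (f : S' ⟶ S) [IsFinite f] [Flat f] [LocallyOfFinitePresentation f] [Surjective f]
    (X' : Over S') (hX : FinAff f X') : ∃ (R : Over S) (q : Red.bc f R ⟶ X'), WeilRes.IsWeilRes f X' R q := by
  refine exists_isWeilRes_of_cover fun T h t => ?_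
  have hfin : (h.left '' (⇑(pullback.fst T.hom f) ⁻¹' {t})).Finite :=
    ((pullback.fst T.hom f).finite_preimage_singleton t).image _
  obtain ⟨U, hU, ⟨V, hV, hUV⟩, hFU⟩ := hX (T.hom t) _ hfin (by
    rintro _ ⟨z, hz, rfl⟩
    have e1 : X'.hom (h.left z) = pullback.snd T.hom f z := congrArg (fun m => m.base z) (Over.w h)
    rw [e1, ← Scheme.Hom.comp_apply, ← pullback.condition, Scheme.Hom.comp_apply]
    exact congrArg (fun y => T.hom y) hz)
  exact ⟨⟨U, mem_idx hU hV hUV⟩, mem_locus.2 fun z hz => hFU ⟨z, hz, rfl⟩⟩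

/-- Bijectivity on points is local on the base. -/
theorem isWeilRes_of_parts {f : S' ⟶ S} {X' : Over S'} {R : Over S} (q : Red.bc f R ⟶ X') {ι : Type u}
    (O : ι → S.Opens) (hO : ∀ s, ∃ b, s ∈ O b)
    (hloc : ∀ (T : Over S) (b : ι), Set.range T.hom ⊆ O b → Function.Bijective (WeilRes.restr f q T)) :
    WeilRes.IsWeilRes f X' R q := by
  intro T
  let W : ι → T.left.Opens := fun b => T.hom ⁻¹ᵁ O b
  have hW : ∀ t, ∃ b, t ∈ W b := fun t => hO (T.hom t)
  have hWr : ∀ b, Set.range (res T (W b)).hom ⊆ O b := fun b => by rintro _ ⟨x, rfl⟩; exact x.2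
  let 𝒲 : T.left.OpenCover := Scheme.Cover.mkOfCovers (P := @IsOpenImmersion) (ι)
    (fun b => (res T (W b)).left) (fun b => (resι T (W b)).left) (cover_resι W hW) (fun _ => inferInstance)
  constructor
  · intro g g' e
    refine Over.OverMorphism.ext (Scheme.Cover.hom_ext 𝒲 _ _ fun b => ?_)
    refine congrArg CommaMorphism.left ((hloc _ b (hWr b)).1 (a₁ := resι T (W b) ≫ g) (a₂ := resι T (W b) ≫ g') ?_)
    rw [WeilRes.restr_comp, WeilRes.restr_comp, e]
  · intro a
    choose c hc using fun b => (hloc _ b (hWr b)).2 ((Over.pullback f).map (resι T (W b)) ≫ a)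
    have compat : ∀ s t, pullback.fst (𝒲.f s) (𝒲.f t) ≫ (c s).left = pullback.snd _ _ ≫ (c t).left := by
      intro (s : ι) (t : ι)
      let Q : Over S := Over.mk (pullback.fst (𝒲.f s) (𝒲.f t) ≫ (res T (W s)).hom)
      let p1 : Q ⟶ res T (W s) := Over.homMk (pullback.fst _ _) rfl
      let p2 : Q ⟶ res T (W t) := Over.homMk (pullback.snd _ _) (by
        change pullback.snd _ _ ≫ (res T (W t)).hom = pullback.fst _ _ ≫ (res T (W s)).hom
        exact (pullback.condition_assoc T.hom).symm)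
      have hQ : Set.range Q.hom ⊆ O s := by rintro _ ⟨x, rfl⟩; exact (pullback.fst (𝒲.f s) (𝒲.f t) x).2
      refine congrArg CommaMorphism.left ((hloc Q s hQ).1 (a₁ := p1 ≫ c s) (a₂ := p2 ≫ c t) ?_)
      rw [WeilRes.restr_comp, WeilRes.restr_comp _ _ p2, hc, hc, ← Category.assoc, ← Category.assoc,
        ← CategoryTheory.Functor.map_comp, ← CategoryTheory.Functor.map_comp]
      exact congrArg (fun m => (Over.pullback f).map m ≫ a) (Over.OverMorphism.ext pullback.condition)
    let G := 𝒲.glueMorphisms (fun b => (c b).left) compat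
    have hG : G ≫ R.hom = T.hom := by
      refine Scheme.Cover.hom_ext 𝒲 _ _ fun b => ?_
      exact ((Category.assoc _ _ _).symm.trans
        (congrArg (· ≫ R.hom) (Scheme.Cover.ι_glueMorphisms 𝒲 _ compat b))).trans (Over.w (c b))
    refine ⟨Over.homMk G hG, hom_ext_family (fun b => resι T (W b)) (cover_resι W hW) fun b => ?_⟩
    rw [← WeilRes.restr_comp, show resι T (W b) ≫ Over.homMk G hG = c b from
      Over.OverMorphism.ext (Scheme.Cover.ι_glueMorphisms 𝒲 _ compat b)]
    exact hc b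


/-- Weil restrictions over the parts of a disjoint open cover of the base. -/
theorem exists_of_family {f : S' ⟶ S} {X' : Over S'} {ι : Type u} (O : ι → S.Opens)
    (hdisj : ∀ b b' s, s ∈ O b → s ∈ O b' → b = b') (hO : ∀ s, ∃ b, s ∈ O b) (P : ι → Over S)
    (qP : ∀ b, Red.bc f (P b) ⟶ X') (hP : ∀ b, IsResOver f X' (O b) (P b) (qP b)) :
    ∃ (R : Over S) (q : Red.bc f R ⟶ X'), WeilRes.IsWeilRes f X' R q := by
  let R : Over S := Over.mk (Sigma.desc fun b => (P b).hom)
  let j : ∀ b, P b ⟶ R := fun b => Over.homMk (Sigma.ι (fun b => (P b).left) b) (Sigma.ι_desc _ _)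
  have hji : ∀ b, IsOpenImmersion (j b).left := fun b =>
    inferInstanceAs (IsOpenImmersion (Sigma.ι (fun b => (P b).left) b))
  have hj : ∀ r, ∃ b x, (j b).left x = r := fun r => by
    obtain ⟨b, x, hx⟩ := (sigmaOpenCover fun b => (P b).left).exists_eq r
    exact ⟨b, x, hx⟩
  have hmem : ∀ b (x : (P b).left), R.hom ((j b).left x) ∈ O b := fun b x => by
    rw [← Scheme.Hom.comp_apply, Over.w (j b)]
    exact (hP b).range_subset ⟨x, rfl⟩
  have hcompat : ∀ (Q : Over S) (s t) (a : Q ⟶ P s) (b : Q ⟶ P t), a ≫ j s = b ≫ j t →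
      (Over.pullback f).map a ≫ qP s = (Over.pullback f).map b ≫ qP t := by
    intro Q s t a b e
    by_cases hst : s = t
    · subst hst
      have := hji s
      rw [show a = b from Over.OverMorphism.ext ((cancel_mono (j s).left).1 (congrArg CommaMorphism.left e))]
    · have hQ : IsEmpty Q.left := ⟨fun x => hst (by
        have e' : (j s).left (a.left x) = (j t).left (b.left x) :=
          congrArg (fun m => m.left.base x) e
        exact hdisj s t _ (hmem s (a.left x)) (by rw [e']; exact hmem t _))⟩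
      have : IsEmpty (Red.bc f Q).left := ⟨fun z => hQ.elim (pullback.fst Q.hom f z)⟩
      exact Over.OverMorphism.ext ((isInitialOfIsEmpty (X := (Red.bc f Q).left)).hom_ext _ _)
  obtain ⟨q, hq⟩ := exists_glue (f := f) (T := R) j hj qP hcompat
  refine ⟨R, q, isWeilRes_of_parts q O hO fun T b hT => ?_⟩
  have key : ∀ a : T ⟶ P b, WeilRes.restr f q T (a ≫ j b) = WeilRes.restr f (qP b) T a := fun a => by
    rw [WeilRes.restr_comp, WeilRes.restr_apply _ _ _ (j b), hq, WeilRes.restr_apply]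
  have hfac : ∀ g : T ⟶ R, ∃ a : T ⟶ P b, a ≫ j b = g := by
    intro g
    have := hji b
    have hr : Set.range g.left ⊆ Set.range (j b).left := by
      rintro _ ⟨t, rfl⟩
      obtain ⟨b', x, hx⟩ := hj (g.left t)
      obtain rfl : b = b' := hdisj b b' (T.hom t) (hT ⟨t, rfl⟩) (by
        have := hmem b' x
        rw [hx, ← Scheme.Hom.comp_apply, Over.w g] at this
        exact this)
      exact ⟨x, hx⟩
    exact ⟨Over.homMk (IsOpenImmersion.lift (j b).left g.left hr) (by
      rw [← Over.w (j b), IsOpenImmersion.lift_fac_assoc, Over.w g]),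
      Over.OverMorphism.ext (IsOpenImmersion.lift_fac _ _ _)⟩
  refine ⟨fun g g' e => ?_, fun a => ?_⟩
  · obtain ⟨c, rfl⟩ := hfac g
    obtain ⟨c', rfl⟩ := hfac g'
    rw [key, key] at e
    rw [((hP b).bijective T hT).1 e]
  · obtain ⟨c, hc⟩ := ((hP b).bijective T hT).2 a
    exact ⟨c ≫ j b, (key c).trans hc⟩

/-- Over an open over which all fibres are empty, that open is the Weil restriction. -/
theorem exists_isResOver_empty {f : S' ⟶ S} {X' : Over S'} (S0 : S.Opens) (h0 : ∀ x, f x ∉ S0) :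
    ∃ q : Red.bc f (Over.mk S0.ι) ⟶ X', IsResOver f X' S0 (Over.mk S0.ι) q := by
  have hempty : ∀ T : Over S, Set.range T.hom ⊆ S0 → IsEmpty (Red.bc f T).left := fun T hT => ⟨fun z => by
    refine h0 (pullback.snd T.hom f z) ?_
    rw [← Scheme.Hom.comp_apply, ← pullback.condition]
    exact hT ⟨_, rfl⟩⟩
  have hr : Set.range (Over.mk S0.ι : Over S).hom ⊆ S0 := (Scheme.Opens.range_ι _).le
  have := hempty _ hr
  refine ⟨Over.homMk (isInitialOfIsEmpty.to _)
    ((isInitialOfIsEmpty (X := (Red.bc f (Over.mk S0.ι)).left)).hom_ext _ _), hr, fun T hT => ?_⟩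
  have := hempty T hT
  have hT0 : Set.range T.hom ⊆ Set.range S0.ι := by rw [Scheme.Opens.range_ι]; exact hT
  exact ⟨fun g g' _ => Over.OverMorphism.ext ((cancel_mono S0.ι).1 ((Over.w g).trans (Over.w g').symm)),
    fun a => ⟨Over.homMk (IsOpenImmersion.lift S0.ι T.hom hT0) (IsOpenImmersion.lift_fac _ _ _),
      Over.OverMorphism.ext ((isInitialOfIsEmpty (X := (Red.bc f T).left)).hom_ext _ _)⟩⟩

/-- Existence along a finite locally free morphism. -/
theorem exists_isWeilRes_of_finAff (f : S' ⟶ S) [IsFinite f] [Flat f] [LocallyOfFinitePresentation f]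
    (X' : Over S') (hX : FinAff f X') : ∃ (R : Over S) (q : Red.bc f R ⟶ X'), WeilRes.IsWeilRes f X' R q := by
  have hco : IsClosed (Set.range f) := f.isClosedMap.isClosed_range
  let S1 : S.Opens := ⟨Set.range f, f.isOpenMap.isOpen_range⟩
  let S0 : S.Opens := ⟨(Set.range f)ᶜ, hco.isOpen_compl⟩
  have : IsClosedImmersion S1.ι := .of_isPreimmersion _ (by rw [Scheme.Opens.range_ι]; exact hco)
  have hr1 : Set.range f ⊆ Set.range S1.ι := by rw [Scheme.Opens.range_ι]; exact subset_rfl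
  let f1 : S' ⟶ S1 := IsOpenImmersion.lift S1.ι f hr1
  have hf1 : f1 ≫ S1.ι = f := IsOpenImmersion.lift_fac _ _ _
  have sq : IsPullback (𝟙 S') f1 f S1.ι := ⟨⟨by simp [hf1]⟩, ⟨PullbackCone.IsLimit.mk _ (fun c => c.fst)
    (fun c => Category.comp_id _) (fun c => (cancel_mono S1.ι).1 (by rw [Category.assoc, hf1, c.condition]))
    (fun c m h1 _ => by simpa using h1)⟩⟩
  have : IsFinite f1 := MorphismProperty.of_isPullback sq ‹IsFinite f›
  have : Flat f1 := MorphismProperty.of_isPullback sq ‹Flat f›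
  have : LocallyOfFinitePresentation f1 := MorphismProperty.of_isPullback sq ‹LocallyOfFinitePresentation f›
  have : Surjective f1 := ⟨fun y => by
    obtain ⟨x, hx⟩ := y.2
    exact ⟨x, S1.ι.isOpenEmbedding.injective ((congrArg (fun m => m.base x) hf1).trans hx)⟩⟩
  obtain ⟨R1, q1, h1⟩ := exists_of_surjective f1 X' (fun s F hF hFs => by
    obtain ⟨U, hU, ⟨V, hV, hUV⟩, hFU⟩ := hX (S1.ι s) F hF (fun x hx => by
      rw [← hFs x hx]
      exact (congrArg (fun m => m.base (X'.hom x)) hf1).symm)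
    refine ⟨U, hU, ⟨S1.ι ⁻¹ᵁ V, hV.preimage S1.ι, fun x hx => ?_⟩, hFU⟩
    change S1.ι (f1 (X'.hom x)) ∈ V
    rw [← Scheme.Hom.comp_apply, hf1]
    exact hUV hx)
  let κ : X'.left ≅ ((⊤ : X'.left.Opens) : Scheme.{u}) := X'.left.topIso.symm
  have hκ : X'.hom ≫ 𝟙 S' = κ.hom ≫ (⊤ : X'.left.Opens).ι ≫ X'.hom := by
    rw [Category.comp_id, ← Category.assoc, show κ.hom ≫ (⊤ : X'.left.Opens).ι = 𝟙 _ from X'.left.topIso.inv_hom_id,
      Category.id_comp]
  obtain ⟨q0, h0⟩ := exists_isResOver_empty (f := f) (X' := X') S0 (fun x hx => hx ⟨x, rfl⟩)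
  have h1' : IsResOver f X' S1 (push S1.ι R1) (chartQ sq ⊤ κ hκ (q0 := q1)) :=
    ⟨by rintro _ ⟨x, rfl⟩; exact (R1.hom x).2, fun T hT => ⟨injective_chart sq ⊤ κ hκ h1 T,
      fun a => exists_hit_chart sq ⊤ κ hκ h1 T (by rw [Scheme.Opens.range_ι]; exact hT) a (fun _ _ => trivial)⟩⟩
  let P : ULift.{u} Bool → Σ (V : S.Opens) (R : Over S), (Red.bc f R ⟶ X') := fun b =>
    bif b.down then ⟨S1, _, chartQ sq ⊤ κ hκ (q0 := q1)⟩ else ⟨S0, _, q0⟩
  refine exists_of_family (fun b => (P b).1) ?_ (fun s => ?_) (fun b => (P b).2.1) (fun b => (P b).2.2) ?_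
  · rintro ⟨_ | _⟩ ⟨_ | _⟩ s h h'
    · rfl
    · exact absurd h' h
    · exact absurd h h'
    · rfl
  · by_cases h : s ∈ Set.range f
    · exact ⟨⟨true⟩, h⟩
    · exact ⟨⟨false⟩, h⟩
  · rintro ⟨_ | _⟩
    · exact h0
    · exact h1'

end Groth.Agent.RelPC13.WeilMor
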