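import Groth.Agent.RelPC13.WeilMor.Exists
import Groth.Agent.S0411
import Groth.Agent.GrpdLib.InvOpen
import Groth.Prelude.Def_Flatn

/-!
# Representability of `Flatn.morS` through Weil restriction
-/

universe u

open CategoryTheory Limits AlgebraicGeometry Opposite

namespace Groth.Agent.RelPC13.WeilMor

variable {Z X S : Scheme.{u}} (g : Z ⟶ S) (f : X ⟶ S)

/-- The `Z`-scheme whose Weil restriction is the scheme of morphisms. -/
noncomputable abbrev tgt : Over Z := (Over.pullback g).obj (Over.mk f)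

/-- Transfer of representability. -/
noncomputable def representableBy {W : Over S} (e : (WeilRes.functor g (tgt g f)).RepresentableBy W) :
    (Flatn.morS g f).RepresentableBy W where
  homEquiv {T} := e.homEquiv.trans ((Over.mapPullbackAdj g).homEquiv ((Over.pullback g).obj T) (Over.mk f)).symm
  homEquiv_comp {T T'} φ h :=
    (congrArg ((Over.mapPullbackAdj g).homEquiv ((Over.pullback g).obj T) (Over.mk f)).symm
      (e.homEquiv_comp φ h)).trans ((Over.mapPullbackAdj g).homEquiv_naturality_left_symm _ _)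

/-- The hypothesis on points implies the one used for Weil restriction. -/
theorem finAff (hg : IsFinite g)
    (hAF : ∀ (s : S) (F : Set X), F.Finite → (∀ x ∈ F, f x = s) → ∃ U : X.Opens, IsAffineOpen U ∧ F ⊆ U) :
    FinAff g (tgt g f) := by
  intro s F hF hFs
  let p : (tgt g f).left ⟶ X := pullback.fst f g
  have : IsFinite p := MorphismProperty.of_isPullback (IsPullback.of_hasPullback f g).flip hg
  have hp : ∀ x ∈ F, f (p x) = s := fun x hx => by
    rw [← hFs x hx, ← Scheme.Hom.comp_apply, ← Scheme.Hom.comp_apply]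
    exact congrArg (fun m : (tgt g f).left ⟶ S => m x) pullback.condition
  obtain ⟨U, hU, hFU⟩ := hAF s (p '' F) (hF.image _) (by rintro _ ⟨x, hx, rfl⟩; exact hp x hx)
  obtain ⟨V, hV, hsV, -⟩ := exists_isAffineOpen_mem_and_subset (U := ⊤) (TopologicalSpace.Opens.mem_top s)
  obtain ⟨r, hr1, hr2⟩ := Groth.Agent.GrpdLib.exists_basicOpen_of_finite hU (hF.image p) (f ⁻¹ᵁ V) hFU
    (by rintro _ ⟨x, hx, rfl⟩; change f (p x) ∈ V; rw [hp x hx]; exact hsV)
  refine ⟨p ⁻¹ᵁ X.basicOpen r, (hU.basicOpen r).preimage p, ⟨V, hV, fun x hx => ?_⟩, fun x hx => hr1 ⟨x, hx, rfl⟩⟩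
  change g ((tgt g f).hom x) ∈ V
  have e : g ((tgt g f).hom x) = f (p x) := by
    rw [← Scheme.Hom.comp_apply, ← Scheme.Hom.comp_apply]
    exact congrArg (fun m : (tgt g f).left ⟶ S => m x) pullback.condition.symm
  rw [e]
  exact hr2 hx

theorem exists_representableBy (hg : IsFinite g) [Flat g] [LocallyOfFinitePresentation g]
    (hAF : ∀ (s : S) (F : Set X), F.Finite → (∀ x ∈ F, f x = s) → ∃ U : X.Opens, IsAffineOpen U ∧ F ⊆ U) :
    ∃ (W : Over S) (q : Red.bc g W ⟶ tgt g f), WeilRes.IsWeilRes g (tgt g f) W q :=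
  exists_isWeilRes_of_finAff g (tgt g f) (finAff g f hg hAF)

/-- Affine morphisms satisfy the hypothesis on points. -/
theorem af_of_isAffineHom [IsAffineHom f] (s : S) (F : Set X) (_ : F.Finite) (hF : ∀ x ∈ F, f x = s) :
    ∃ U : X.Opens, IsAffineOpen U ∧ F ⊆ U := by
  obtain ⟨V, hV, hsV, -⟩ := exists_isAffineOpen_mem_and_subset (U := ⊤) (TopologicalSpace.Opens.mem_top s)
  exact ⟨f ⁻¹ᵁ V, hV.preimage f, fun x hx => by change f x ∈ V; rw [hF x hx]; exact hsV⟩

theorem exists_affineHom_representableBy (hg : IsFinite g) [Flat g] [LocallyOfFinitePresentation g] [IsAffineHom f] :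
    ∃ W : Over S, IsAffineHom W.hom ∧ Nonempty ((Flatn.morS g f).RepresentableBy W) := by
  obtain ⟨W, q, h⟩ := exists_representableBy g f hg (af_of_isAffineHom f)
  have : IsAffineHom (tgt g f).hom := MorphismProperty.of_isPullback (IsPullback.of_hasPullback f g) ‹IsAffineHom f›
  exact ⟨W, isAffineHom_of_isWeilRes h, ⟨representableBy g f h.representableBy⟩⟩

/-- Finite sets of points over a point of the base, for separated locally quasi-finite morphisms. -/
theorem af_of_lqf [IsSeparated f] [LocallyQuasiFinite f] [LocallyOfFiniteType f] (s : S) (F : Set X) (hF : F.Finite)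
    (hFs : ∀ x ∈ F, f x = s) : ∃ U : X.Opens, IsAffineOpen U ∧ F ⊆ U := by
  obtain ⟨V, hV, hsV, -⟩ := exists_isAffineOpen_mem_and_subset (U := ⊤) (TopologicalSpace.Opens.mem_top s)
  have : IsAffine (V : Scheme.{u}) := hV
  obtain ⟨U, hU, hTU⟩ := S0411.result (f ∣_ V)
    (hF.preimage (f ⁻¹ᵁ V).ι.isOpenEmbedding.injective.injOn).toFinset
  refine ⟨(f ⁻¹ᵁ V).ι ''ᵁ U, hU.image_of_isOpenImmersion _, fun x hx => ?_⟩
  have hxV : x ∈ f ⁻¹ᵁ V := by change f x ∈ V; rw [hFs x hx]; exact hsV
  exact ⟨⟨x, hxV⟩, hTU ⟨x, hxV⟩ ((Set.Finite.mem_toFinset _).2 hx), rfl⟩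

end Groth.Agent.RelPC13.WeilMor
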